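-- Team project R3 (S1788, helper17): package [PSP] (helper97).
import Cfsg.Agent.Lib.Helper17.R3.Defs

set_option autoImplicit false

namespace Cfsg.Agent.Lib.Helper97.R3

open Cfsg Matrix

variable {F : Type} [Field F]

/-- a symmetric matrix with three free entries -/
def bMat {m : ℕ} (i0 i1 : Fin m) (p : F × F × F) : Matrix (Fin m) (Fin m) F :=
  Matrix.of fun i j =>
    if i = i0 ∧ j = i0 then p.1 else if i = i1 ∧ j = i1 then p.2.1
    else if (i = i0 ∧ j = i1) ∨ (i = i1 ∧ j = i0) then p.2.2 else 0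

theorem bMat_transpose {m : ℕ} (i0 i1 : Fin m) (p : F × F × F) :
    (bMat i0 i1 p)ᵀ = bMat i0 i1 p := by
  ext i j
  simp only [Matrix.transpose_apply, bMat, Matrix.of_apply]
  by_cases h1 : i = i0 <;> by_cases h2 : i = i1 <;> by_cases h3 : j = i0 <;>
    by_cases h4 : j = i1 <;> simp [h1, h2, h3, h4]

theorem upper_mem {m : ℕ} (B : Matrix (Fin m) (Fin m) F) (hB : Bᵀ = B) :
    Matrix.fromBlocks 1 B 0 1 ∈ Matrix.symplecticGroup (Fin m) F := by
  rw [SymplecticGroup.mem_iff]
  simp [Matrix.J, Matrix.fromBlocks_multiply, Matrix.fromBlocks_transpose, hB]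

theorem pkgPSp : Cfsg.Agent.Lib.Helper17.R3.PkgPSp := by
  intro F _ _ _ m hm _
  classical
  let i0 : Fin m := ⟨0, by omega⟩
  let i1 : Fin m := ⟨1, by omega⟩
  have h01 : i0 ≠ i1 := by
    intro h
    have := congrArg Fin.val h
    simp [i0, i1] at this
  let φ : F × F × F → Matrix.symplecticGroup (Fin m) F :=
    fun p => ⟨Matrix.fromBlocks 1 (bMat i0 i1 p) 0 1, upper_mem _ (bMat_transpose i0 i1 p)⟩
  have hmul : ∀ p p' : F × F × F,
      ((φ p * φ p' : Matrix.symplecticGroup (Fin m) F) :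
          Matrix (Fin m ⊕ Fin m) (Fin m ⊕ Fin m) F)
        = Matrix.fromBlocks 1 (bMat i0 i1 p + bMat i0 i1 p') 0 1 := by
    intro p p'
    show Matrix.fromBlocks 1 (bMat i0 i1 p) 0 1 * Matrix.fromBlocks 1 (bMat i0 i1 p') 0 1 = _
    rw [Matrix.fromBlocks_multiply]
    simp [add_comm]
  have hcomm : ∀ p p', φ p * φ p' = φ p' * φ p := by
    intro p p'
    apply Subtype.ext
    rw [hmul, hmul, add_comm]
  have hsq : ∀ p, φ p * φ p = 1 := by
    intro p
    apply Subtype.ext
    rw [hmul]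
    have h0 : bMat i0 i1 p + bMat i0 i1 p = 0 := by
      ext i j
      simp only [Matrix.add_apply, Matrix.zero_apply]
      exact CharTwo.add_self_eq_zero _
    rw [h0]
    show Matrix.fromBlocks 1 0 0 1 = (1 : Matrix (Fin m ⊕ Fin m) (Fin m ⊕ Fin m) F)
    exact Matrix.fromBlocks_one
  refine Cfsg.Agent.Lib.Helper17.R3.r3_quot _ φ hcomm hsq ?_ ?_
  · intro p p' hmem
    have hinv : (φ p)⁻¹ = φ p := inv_eq_of_mul_eq_one_right (hsq p)
    rw [hinv, Subgroup.mem_center_iff] at hmem
    have h := congrArg Subtype.val (hmem ⟨Matrix.J (Fin m) F, SymplecticGroup.J_mem _ _⟩)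
    have h' : Matrix.J (Fin m) F * Matrix.fromBlocks 1 (bMat i0 i1 p + bMat i0 i1 p') 0 1
        = Matrix.fromBlocks 1 (bMat i0 i1 p + bMat i0 i1 p') 0 1 * Matrix.J (Fin m) F := by
      rw [← hmul]
      exact h
    rw [Matrix.J, Matrix.fromBlocks_multiply, Matrix.fromBlocks_multiply] at h'
    have hz : bMat i0 i1 p + bMat i0 i1 p' = 0 := by
      have := (Matrix.fromBlocks_inj.mp h').1
      simpa using this.symm
    have e00 := congrFun (congrFun hz i0) i0
    have e11 := congrFun (congrFun hz i1) i1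
    have e01 := congrFun (congrFun hz i0) i1
    simp only [Matrix.add_apply, Matrix.zero_apply, bMat, Matrix.of_apply] at e00 e11 e01
    have h10 : i1 ≠ i0 := h01.symm
    simp only [h01, h10, true_and, and_true, and_self, and_false, false_and, or_false, or_true,
      true_or, if_true, if_false] at e00 e11 e01
    obtain ⟨x, y, z⟩ := p
    obtain ⟨x', y', z'⟩ := p'
    simp only at e00 e11 e01
    rw [CharTwo.add_eq_zero.mp e00, CharTwo.add_eq_zero.mp e11, CharTwo.add_eq_zero.mp e01]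
  · rw [Nat.card_eq_fintype_card, Fintype.card_prod, Fintype.card_prod]
    have hF : 2 ≤ Fintype.card F := Fintype.one_lt_card
    calc 8 = 2 * (2 * 2) := by norm_num
      _ ≤ Fintype.card F * (Fintype.card F * Fintype.card F) :=
        Nat.mul_le_mul hF (Nat.mul_le_mul hF hF)

end Cfsg.Agent.Lib.Helper97.R3
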